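import Cfsg.Agent.H91.U.Basic
set_option linter.all false

/-!
# Two orbits on isotropic points: definitions (helper91, S2196)

* `Orb K O` : `K ≤ SU(V)` has exactly two orbits on the isotropic points, one of them is `O` (a set of non zero isotropic
  vectors closed under non zero scalars);
* `AffP K O` : the `K`-invariant functions on totally isotropic flags are affine functions of the intersection numbers
  with `O`;
* `Orth B r` : the function `r` on `X` is orthogonal to the functions invariant under the stabiliser of a totally isotropic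
  flag;
* `co B O` : the other orbit.
-/

set_option autoImplicit false
set_option linter.unusedSectionVars false

namespace Cfsg.Agent.H91.U

open Module

variable {F V : Type*} [Field F] [AddCommGroup V] [Module F V] {σ : F →+* F} {B : V →ₛₗ[σ] V →ₗ[F] F}

theorem smul_def (g : SIso B) (v : V) : g • v = g.1 v := rfl

theorem B_smul (g : SIso B) (v w : V) : B (g • v) (g • w) = B v w := g.2.2 v w

theorem smul_eq_zero' (g : SIso B) {v : V} : g • v = 0 ↔ v = 0 := LinearEquiv.map_eq_zero_iff g.1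

theorem W_smul {j : ℕ} (g : SIso B) (u : Fin j → V) (i : ℕ) : W F (g • u) i = (W F u i).map (g.1 : V →ₗ[F] V) :=
  (map_W u i g.1).symm

theorem frame_smul {j : ℕ} {u : Fin j → V} (hu : Frame B u) (g : SIso B) : Frame B (g • u) := Frame.map hu g.2

/-- `O` is one of the two orbits of `K` on the isotropic points -/
structure Orb (K : Subgroup (SIso B)) (O : Set V) : Prop where
  inv : ∀ g ∈ K, ∀ v, g • v ∈ O ↔ v ∈ O
  smul : ∀ c : F, c ≠ 0 → ∀ v, c • v ∈ O ↔ v ∈ O
  zero : (0 : V) ∉ O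
  iso : ∀ v ∈ O, B v v = 0
  ne : O.Nonempty
  ne' : ∃ v, v ≠ 0 ∧ B v v = 0 ∧ v ∉ O
  tr : ∀ v ∈ O, ∀ v' ∈ O, ∃ g ∈ K, ∃ c : F, g • v = c • v'
  tr' : ∀ v, v ≠ 0 → B v v = 0 → v ∉ O → ∀ v', v' ≠ 0 → B v' v' = 0 → v' ∉ O → ∃ g ∈ K, ∃ c : F, g • v = c • v'

variable (B) in
/-- the other orbit -/
def co (O : Set V) : Set V := {v | v ≠ 0 ∧ B v v = 0 ∧ v ∉ O}

theorem Orb.co {K : Subgroup (SIso B)} {O : Set V} (h : Orb K O) : Orb K (co B O) where
  inv g hg v := by
    change g • v ≠ 0 ∧ B (g • v) (g • v) = 0 ∧ g • v ∉ O ↔ v ≠ 0 ∧ B v v = 0 ∧ v ∉ O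
    rw [not_iff_not.2 (h.inv g hg v), Ne, smul_eq_zero', B_smul]
  smul c hc v := by
    change c • v ≠ 0 ∧ B (c • v) (c • v) = 0 ∧ c • v ∉ O ↔ v ≠ 0 ∧ B v v = 0 ∧ v ∉ O
    rw [not_iff_not.2 (h.smul c hc v), smul_ne_zero_iff, smul_left', smul_right', mul_eq_zero, mul_eq_zero,
      map_eq_zero]
    simp [hc]
  zero h := h.1 rfl
  iso v hv := hv.2.1
  ne := h.ne'
  ne' := by
    obtain ⟨v, hv⟩ := h.ne
    have hv0 : v ≠ 0 := fun e => h.zero (e ▸ hv)
    exact ⟨v, hv0, h.iso v hv, fun h => h.2.2 hv⟩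
  tr v hv v' hv' := h.tr' v hv.1 hv.2.1 hv.2.2 v' hv'.1 hv'.2.1 hv'.2.2
  tr' v hv hv1 hvO v' hv' hv1' hvO' := by
    have h1 : v ∈ O := by
      by_contra hcon
      exact hvO ⟨hv, hv1, hcon⟩
    have h2 : v' ∈ O := by
      by_contra hcon
      exact hvO' ⟨hv', hv1', hcon⟩
    exact h.tr v h1 v' h2

/-- invariant functions are affine functions of the intersection numbers -/
def AffP (K : Subgroup (SIso B)) (O : Set V) : Prop :=
  ∀ (j : ℕ) (f : (Fin j → V) → ℝ), (∀ g ∈ K, ∀ u, f (g • u) = f u) →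
    (∀ u u', Frame B u → Frame B u' → (∀ i, W F u i = W F u' i) → f u = f u') →
    ∃ (a : ℝ) (α : ℕ → ℝ), ∀ u, Frame B u →
      f u = a + ∑ l ∈ Finset.range (j + 1), α l * (((W F u l : Set V) ∩ O).ncard : ℝ)

/-- `r` is orthogonal to the functions invariant under the stabiliser of a totally isotropic flag -/
def Orth (B : V →ₛₗ[σ] V →ₗ[F] F) {X : Type*} [Fintype X] [MulAction (SIso B) X] (r : X → ℝ) : Prop :=
  ∀ (j : ℕ) (u : Fin j → V) (h : X → ℝ), Frame B u →
    (∀ g : SIso B, (∀ i, (W F u i).map (g.1 : V →ₗ[F] V) = W F u i) → ∀ x, h (g • x) = h x) → ∑ x, h x * r x = 0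

end Cfsg.Agent.H91.U
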